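import Groth.Prelude.Def_Pi1
import Groth.Agent.Lib.Cube.Pic
import Groth.Agent.Lib.Ample.Criterion
import Groth.Agent.Lib.NormalExt.Basic
import Mathlib.AlgebraicGeometry.Morphisms.FormallyUnramified
import Mathlib.AlgebraicGeometry.Morphisms.Etale
import Mathlib.FieldTheory.PurelyInseparable.Basic

/-!
# `p`-th roots of functions which become `p`-th powers on an étale cover
-/

universe u

open CategoryTheory CategoryTheory.Limits Opposite TopologicalSpace AlgebraicGeometry
open GrothLib GrothLib.Ample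

noncomputable section

namespace GrothLib.PthRoot26

theorem exists_pow_eq_of_isSeparable {K K' : Type*} [Field K] [Field K'] [Algebra K K']
    [Algebra.IsSeparable K K'] (p : ℕ) [Fact p.Prime] [CharP K p] (a : K) {y : K'}
    (hy : y ^ p = algebraMap K K' a) : ∃ z : K, z ^ p = a := by
  haveI : ExpChar K p := ExpChar.prime Fact.out
  have h1 : (minpoly K y).natSepDegree = 1 :=
    (minpoly.natSepDegree_eq_one_iff_pow_mem p).2 ⟨1, ⟨a, by rw [pow_one]; exact hy.symm⟩⟩
  have hs : (minpoly K y).Separable := Algebra.IsSeparable.isSeparable K y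
  rw [hs.natSepDegree_eq_natDegree] at h1
  obtain ⟨z, rfl⟩ := minpoly.natDegree_eq_one_iff.1 h1
  exact ⟨z, (algebraMap K K').injective (by rw [map_pow, hy])⟩

variable {X X' : Scheme.{u}}

theorem bijective_residue_of_generic [IsIntegral X] {s : X} (hs : s = genericPoint X) :
    Function.Bijective (X.residue s) := by
  refine ⟨?_, X.residue_surjective s⟩
  subst hs
  exact RingHom.injective (R := X.functionField) (X.residue (genericPoint X)).hom

/-- An element which becomes a `p`-th power on a formally unramified cover is one at the generic point. -/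
theorem exists_pow_germ [IsIntegral X] (p : ℕ) [Fact p.Prime] [CharP X.functionField p]
    (f : X' ⟶ X) [LocallyOfFiniteType f] [FormallyUnramified f] {x' : X'} (hx' : f.base x' = genericPoint X)
    {D : X.Opens} [Nonempty D] (hx : f.base x' ∈ D) (a : Γ(X, D)) (w : Γ(X', f ⁻¹ᵁ D))
    (hw : w ^ p = (f.app D).hom a) :
    ∃ y : X.functionField, y ^ p = X.germToFunctionField D a := by
  obtain ⟨hinj, hsurj⟩ := bijective_residue_of_generic hx'
  letI : Algebra (X.residueField (f.base x')) (X'.residueField x') := (f.residueFieldMap x').hom.toAlgebra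
  haveI : CharP (X.residueField (f.base x')) p := by
    have h2 : ∀ s : X, s = genericPoint X → CharP (X.presheaf.stalk s) p := by
      rintro s rfl
      exact ‹CharP X.functionField p›
    haveI := h2 _ hx'
    exact charP_of_injective_ringHom (f := (X.residue (f.base x')).hom) hinj p
  obtain ⟨z, hz⟩ := exists_pow_eq_of_isSeparable (K' := X'.residueField x') p
    (X.evaluation D (f.base x') hx a) (y := X'.evaluation (f ⁻¹ᵁ D) x' hx w) (by
      rw [← map_pow, hw]
      exact (Scheme.evaluation_naturality_apply f x' hx a).symm)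
  obtain ⟨y, rfl⟩ := hsurj z
  have hy : y ^ p = X.presheaf.germ D (f.base x') hx a := hinj (by rw [map_pow, hz]; rfl)
  have key : ∀ (s : X), s = genericPoint X → ∀ (hsD : s ∈ D) (y : X.presheaf.stalk s),
      y ^ p = X.presheaf.germ D s hsD a → ∃ y : X.functionField, y ^ p = X.germToFunctionField D a := by
    rintro s rfl hsD y hy
    exact ⟨y, hy⟩
  exact key _ hx' hx y hy

theorem gen_mem [IrreducibleSpace X] (D : X.Opens) [h : Nonempty D] : genericPoint X ∈ D :=
  ((genericPoint_spec X).mem_open_set_iff D.isOpen).mpr (by simpa using h)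

/-- On a normal integral scheme a unit with a `p`-th root in the function field has one which is a
unit. -/
theorem exists_root [IsIntegral X] (hX : ∀ x : X, IsIntegrallyClosed (X.presheaf.stalk x)) {p : ℕ}
    (hp : 0 < p) (D : X.Opens) [Nonempty D] (a : Γ(X, D)) (ha : IsUnit a) {y : X.functionField}
    (hy : y ^ p = X.germToFunctionField D a) : ∃ b : Γ(X, D), IsUnit b ∧ b ^ p = a := by
  classical
  have hne : ∀ V : {V : X.affineOpens // V.1 ≤ D ∧ genericPoint X ∈ V.1},
      ∃ v : Γ(X, V.1.1), X.presheaf.germ V.1.1 (genericPoint X) V.2.2 v = y := by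
    rintro ⟨⟨V, hV⟩, hVD, hη⟩
    haveI : Nonempty V := ⟨⟨_, hη⟩⟩
    haveI := functionField_isFractionRing_of_isAffineOpen X V hV
    haveI : IsIntegrallyClosed Γ(X, V) := GrothLib.NormalExt.isIntegrallyClosed_Γ hX V hV
    have e : y ^ p = algebraMap Γ(X, V) X.functionField (res hVD a) :=
      hy.trans (TopCat.Presheaf.germ_res_apply X.presheaf (homOfLE hVD) _ hη a).symm
    exact IsIntegrallyClosed.exists_algebraMap_eq_of_isIntegral_pow (R := Γ(X, V)) hp
      (by rw [e]; exact isIntegral_algebraMap)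
  choose v hv using hne
  obtain ⟨b, hb, -⟩ := X.sheaf.existsUnique_gluing'
    (fun V : {V : X.affineOpens // V.1 ≤ D ∧ genericPoint X ∈ V.1} => V.1.1) D (fun V => homOfLE V.2.1)
    (fun x hx => by
      obtain ⟨V, hV, hxV, hVD⟩ := exists_isAffineOpen_mem_and_subset hx
      haveI : Nonempty V := ⟨⟨x, hxV⟩⟩
      exact Opens.mem_iSup.2 ⟨⟨⟨V, hV⟩, hVD, gen_mem V⟩, hxV⟩)
    v (fun V W => by
      have hη : genericPoint X ∈ V.1.1 ⊓ W.1.1 := ⟨V.2.2, W.2.2⟩
      refine germ_injective_of_isIntegral X (U := V.1.1 ⊓ W.1.1) (genericPoint X) hη ?_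
      refine (TopCat.Presheaf.germ_res_apply X.presheaf _ _ hη (v V)).trans ?_
      refine ((hv V).trans (hv W).symm).trans ?_
      exact (TopCat.Presheaf.germ_res_apply X.presheaf _ _ hη (v W)).symm)
  obtain ⟨V, hV, hηV, hVD⟩ := exists_isAffineOpen_mem_and_subset (gen_mem D)
  have hby : X.germToFunctionField D (show Γ(X, D) from b) = y := by
    have h1 := hb ⟨⟨V, hV⟩, hVD, hηV⟩
    rw [← hv ⟨⟨V, hV⟩, hVD, hηV⟩, ← h1]
    exact (TopCat.Presheaf.germ_res_apply X.presheaf _ _ hηV b).symm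
  have hbp : (show Γ(X, D) from b) ^ p = a := Scheme.germToFunctionField_injective X D
    ((map_pow (X.germToFunctionField D).hom _ p).trans ((congrArg (· ^ p) hby).trans hy))
  exact ⟨show Γ(X, D) from b, (isUnit_pow_iff hp.ne').1 (hbp ▸ ha), hbp⟩

theorem nonempty_or_eq_bot (D : X.Opens) : Nonempty D ∨ D = ⊥ := by
  rcases eq_or_ne D ⊥ with h | h
  · exact Or.inr h
  · obtain ⟨x, hx⟩ := (Opens.ne_bot_iff_nonempty D).1 h
    exact Or.inl ⟨⟨x, hx⟩⟩

/-- The units of a trivialisation. -/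
theorem triv_units {c : Cocycle X} (h : Cube.Triv c) : ∃ a : ∀ i, Γ(X, c.D i), (∀ i, IsUnit (a i)) ∧
    ∀ i j (W : X.Opens) (hi : W ≤ c.D i) (hj : W ≤ c.D j), res hi (a i) = c.G i j hi hj * res hj (a j) := by
  obtain ⟨a, ha⟩ := h
  refine ⟨fun i => res (le_inf le_top le_rfl) (a.1 i), fun i => Cube.isUnit_component ha i le_rfl,
    fun i j W hi hj => ?_⟩
  simp only [res_res]
  have h1 := c.sect_spec a i j (le_inf le_top hi) (le_inf le_top hj)
  rwa [pow_one] at h1

theorem triv_of_units {c : Cocycle X} (b : ∀ i, Γ(X, c.D i)) (hb : ∀ i, IsUnit (b i))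
    (h : ∀ i j (W : X.Opens) (hi : W ≤ c.D i) (hj : W ≤ c.D j), res hi (b i) = c.G i j hi hj * res hj (b j)) :
    Cube.Triv c := by
  refine ⟨⟨fun i => res (inf_le_right : ⊤ ⊓ c.D i ≤ c.D i) (b i), fun i j W hi hj => ?_⟩,
    c.locus_eq_top_of_isUnit _ fun i => (hb i).map _⟩
  simp only [res_res, pow_one]
  exact h i j W (hi.trans inf_le_right) (hj.trans inf_le_right)

/-- A global unit is glued from units on a cover. -/
theorem exists_unit_glue {ι : Type u} (D : ι → X.Opens) (hD : ⨆ i, D i = ⊤) (a : ∀ i, Γ(X, D i))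
    (ha : ∀ i, IsUnit (a i)) (h : ∀ i j, res inf_le_left (a i) = (res inf_le_right (a j) : Γ(X, D i ⊓ D j))) :
    ∃ u : Γ(X, ⊤), IsUnit u ∧ ∀ i, res le_top u = a i := by
  obtain ⟨u, hu, -⟩ := X.sheaf.existsUnique_gluing' D ⊤ (fun i => homOfLE le_top) hD.ge a h
  choose b hb using fun i => (ha i).exists_right_inv
  obtain ⟨v, hv, -⟩ := X.sheaf.existsUnique_gluing' D ⊤ (fun i => homOfLE le_top) hD.ge b (fun i j => by
    have h1 := congrArg (res inf_le_left : Γ(X, D i) →+* Γ(X, D i ⊓ D j)) (hb i)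
    have h2 := congrArg (res inf_le_right : Γ(X, D j) →+* Γ(X, D i ⊓ D j)) (hb j)
    rw [map_mul, map_one] at h1 h2
    have h3 := h i j
    show res inf_le_left (b i) = res inf_le_right (b j)
    rw [h3] at h1
    exact (left_inv_eq_right_inv (mul_comm (res inf_le_right (b j)) _ ▸ h2) h1).symm)
  refine ⟨u, IsUnit.of_mul_eq_one (show Γ(X, ⊤) from v) ?_, hu⟩
  refine TopCat.Sheaf.eq_of_locally_eq' X.sheaf D ⊤ (fun i => homOfLE le_top) hD.ge _ _ fun i => ?_
  show res le_top ((show Γ(X, ⊤) from u) * (show Γ(X, ⊤) from v)) = res le_top (1 : Γ(X, ⊤))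
  rw [map_mul, map_one]
  exact (congrArg₂ (· * ·) (hu i) (hv i)).trans (hb i)

variable [IsIntegral X]

theorem eq_of_pow_eq {p : ℕ} [Fact p.Prime] [CharP X.functionField p] {W : X.Opens} {a b : Γ(X, W)}
    (h : a ^ p = b ^ p) : a = b := by
  haveI : ExpChar X.functionField p := ExpChar.prime Fact.out
  rcases nonempty_or_eq_bot W with hW | hW
  · refine Scheme.germToFunctionField_injective X W (frobenius_inj X.functionField p ?_)
    show (X.germToFunctionField W).hom a ^ p = (X.germToFunctionField W).hom b ^ p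
    rw [← map_pow, h, map_pow]
  · subst hW
    exact eq_of_cover (fun e : PEmpty.{1} => e.elim) (fun e => e.elim) bot_le fun e => e.elim

/-- A root of the trivialisation of a `p`-th power, from an étale cover with enough `p`-th roots. -/
theorem triv_pow (hX : ∀ x : X, IsIntegrallyClosed (X.presheaf.stalk x)) (p : ℕ) [Fact p.Prime]
    [CharP X.functionField p] (f : X' ⟶ X) [LocallyOfFiniteType f] [FormallyUnramified f]
    {x' : X'} (hx' : f.base x' = genericPoint X)
    (hroot : ∀ u : Γ(X', ⊤), IsUnit u → ∃ v : Γ(X', ⊤), v ^ p = u)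
    (c : Cocycle X) (e : ℕ) (h : Cube.Triv (c.pow (e * p))) (hf : Cube.Triv (c.comap f)) :
    Cube.Triv (c.pow e) := by
  classical
  have hp : 0 < p := (Fact.out : p.Prime).pos
  obtain ⟨a, ha, haG⟩ : ∃ a : ∀ i, Γ(X, c.D i), (∀ i, IsUnit (a i)) ∧
      ∀ i j (W : X.Opens) (hi : W ≤ c.D i) (hj : W ≤ c.D j),
        res hi (a i) = c.G i j hi hj ^ (e * p) * res hj (a j) := by
    obtain ⟨a, ha, haG⟩ := triv_units h
    exact ⟨a, ha, fun i j W hi hj => (haG i j W hi hj).trans (congrArg (· * _) (Cocycle.pow_G _ _ _ _ hi hj))⟩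
  obtain ⟨b, hb, hbG⟩ : ∃ b : ∀ i, Γ(X', f ⁻¹ᵁ c.D i), (∀ i, IsUnit (b i)) ∧
      ∀ i j (W : X'.Opens) (hi : W ≤ f ⁻¹ᵁ c.D i) (hj : W ≤ f ⁻¹ᵁ c.D j),
        res hi (b i) = (f.appLE (c.D i ⊓ c.D j) W (le_inf hi hj)).hom (c.g i j) * res hj (b j) := by
    obtain ⟨b, hb, hbG⟩ := triv_units hf
    exact ⟨b, hb, fun i j W hi hj => (hbG i j W hi hj).trans (congrArg (· * _) (Cocycle.comap_G _ _ _ _ hi hj))⟩
  choose a' ha' using fun i => (ha i).exists_right_inv
  obtain ⟨C, hCu, hC⟩ := exists_unit_glue (fun i => f ⁻¹ᵁ c.D i) (c.comap f).cover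
    (fun i => b i ^ (e * p) * (f.app (c.D i)).hom (a' i))
    (fun i => ((hb i).pow _).mul ((IsUnit.of_mul_eq_one (a i) (by rw [mul_comm]; exact ha' i)).map _))
    fun i j => by
      have hle : f ⁻¹ᵁ c.D i ⊓ f ⁻¹ᵁ c.D j ≤ f ⁻¹ᵁ (c.D i ⊓ c.D j) := le_rfl
      have e1 := congrArg (f.appLE (c.D i ⊓ c.D j) _ hle).hom (haG i j _ inf_le_left inf_le_right)
      have e2 := congrArg (fun t => (f.appLE (c.D i ⊓ c.D j) _ hle).hom (res inf_le_left t)) (ha' i)
      have e3 := congrArg (fun t => (f.appLE (c.D i ⊓ c.D j) _ hle).hom (res inf_le_right t)) (ha' j)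
      have e4 := hbG i j (f ⁻¹ᵁ c.D i ⊓ f ⁻¹ᵁ c.D j) inf_le_left inf_le_right
      simp only [Cocycle.G, res_self, map_mul, map_one, map_pow, appLE_res] at e1 e2 e3
      simp only [map_mul, map_pow, Scheme.Hom.app_eq_appLE, res_appLE]
      rw [e4, mul_pow]
      linear_combination
        (-((res inf_le_right (b j)) ^ (e * p) *
            (f.appLE (c.D i ⊓ c.D j) _ hle).hom (c.g i j) ^ (e * p) *
            (f.appLE (c.D i) _ (hle.trans (f.preimage_mono inf_le_left))).hom (a' i))) * e3 +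
        ((res inf_le_right (b j)) ^ (e * p) *
            (f.appLE (c.D j) _ (hle.trans (f.preimage_mono inf_le_right))).hom (a' j)) * e2 -
        ((res inf_le_right (b j)) ^ (e * p) *
            (f.appLE (c.D j) _ (hle.trans (f.preimage_mono inf_le_right))).hom (a' j) *
            (f.appLE (c.D i) _ (hle.trans (f.preimage_mono inf_le_left))).hom (a' i)) * e1
  obtain ⟨v, rfl⟩ := hroot C hCu
  have hroots : ∀ i, ∃ r : Γ(X, c.D i), IsUnit r ∧ r ^ p = a i := by
    intro i
    rcases nonempty_or_eq_bot (c.D i) with hne | hbot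
    · haveI := hne
      have hxD : f.base x' ∈ c.D i := hx' ▸ gen_mem (c.D i)
      obtain ⟨v', hv'⟩ := ((isUnit_pow_iff hp.ne').1 hCu).exists_right_inv
      obtain ⟨y, hy⟩ := exists_pow_germ p f hx' hxD (a i)
        (b i ^ e * res (le_top : f ⁻¹ᵁ c.D i ≤ ⊤) v') (by
          have h1 := hC i
          rw [map_pow] at h1
          have h2 := congrArg (res (le_top : f ⁻¹ᵁ c.D i ≤ ⊤)) hv'
          rw [map_mul, map_one] at h2
          have h3 := congrArg (f.app (c.D i)).hom (ha' i)
          rw [map_mul, map_one] at h3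
          rw [mul_pow, ← pow_mul]
          have h5 : res (le_top : f ⁻¹ᵁ c.D i ≤ ⊤) v ^ p * res (le_top : f ⁻¹ᵁ c.D i ≤ ⊤) v' ^ p = 1 := by
            rw [← mul_pow, h2, one_pow]
          rw [h1] at h5
          calc b i ^ (e * p) * res (le_top : f ⁻¹ᵁ c.D i ≤ ⊤) v' ^ p
              = b i ^ (e * p) * res (le_top : f ⁻¹ᵁ c.D i ≤ ⊤) v' ^ p *
                  ((f.app (c.D i)).hom (a i) * (f.app (c.D i)).hom (a' i)) := by rw [h3, mul_one]
            _ = (f.app (c.D i)).hom (a i) * (b i ^ (e * p) * (f.app (c.D i)).hom (a' i) *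
                  res (le_top : f ⁻¹ᵁ c.D i ≤ ⊤) v' ^ p) := by ring
            _ = _ := by rw [h5, mul_one])
      exact exists_root hX hp (c.D i) (a i) (ha i) hy
    · refine ⟨1, isUnit_one, ?_⟩
      exact eq_of_cover (fun e : PEmpty.{1} => e.elim) (fun e => e.elim) (hbot.le.trans bot_le) fun e => e.elim
  choose r hr hrp using hroots
  have key : ∀ (i j : c.ι) (W : X.Opens) (hi : W ≤ c.D i) (hj : W ≤ c.D j),
      res hi (r i) = c.G i j hi hj ^ e * res hj (r j) := fun i j W hi hj => eq_of_pow_eq (p := p) (by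
    rw [mul_pow, ← map_pow, ← map_pow, ← pow_mul, hrp, hrp]
    exact haG i j W hi hj)
  exact triv_of_units (c := c.pow e) r hr fun i j W hi hj =>
    (key i j W hi hj).trans (congrArg (· * _) (Cocycle.pow_G c e i j hi hj).symm)

end GrothLib.PthRoot26
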